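import Mathlib
import Cfsg.Agent.Spor.Comp.Pres

/-! Generated by tools/pg: stabiliser chain l27 -/

set_option autoImplicit false
set_option maxRecDepth 100000
set_option linter.unusedVariables false
set_option exponentiation.threshold 100000

namespace Cfsg.Agent.Cl.Sm

open Cfsg.Agent.Spor

noncomputable def l27_S_t0 : BT :=
(.node (.node (.node (.leaf (nat_lit 0x13147911c91de307d41a2e681c19769ed0d))
 (.leaf (nat_lit 0xb68a816ea15918e7c0d198cf84b73255e80))
) (.leaf (nat_lit 0x9d251de330bd6da2816d628e21a08f499c1))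
) (.node (.leaf (nat_lit 0xbc2b69c65ade7142058b6a866489e53a00e))
 (.leaf (nat_lit 0xc675b95276ade1130daa5b08113ca971d00))
))

noncomputable def l27_S_t : BT :=
l27_S_t0

noncomputable def l27_S : ℕ → ℕ → ℕ := fun x i => Nat.land (Nat.shiftRight (BT.get l27_S_t x) (Nat.mul (nat_lit 5) i)) (nat_lit 31)

noncomputable def l27_defs : LT :=
(.node (.node (.node (.leaf [nat_lit 0])
 (.leaf [nat_lit 0,nat_lit 0,nat_lit 2,nat_lit 0,nat_lit 2,nat_lit 0,nat_lit 1,nat_lit 0,nat_lit 1,nat_lit 0])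
) (.leaf [nat_lit 1,nat_lit 1])
) (.node (.leaf [nat_lit 0])
 (.leaf [nat_lit 0,nat_lit 1,nat_lit 0,nat_lit 2,nat_lit 0,nat_lit 1,nat_lit 0,nat_lit 2])
))
noncomputable def l27_iota : ℕ → ℕ := getP (nat_lit 8) (nat_lit 255) (nat_lit 0x201000403)
noncomputable def l27_inv : ℕ → ℕ := getP (nat_lit 8) (nat_lit 255) (nat_lit 0x304020100)
noncomputable def l27_hws : LT := .leaf []

noncomputable def l27_T_t0 : BT :=
(.node (.node (.node (.leaf (nat_lit 0xc675b95276ade1130daa5b08113ca971d00))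
 (.leaf (nat_lit 0x9d251de330bd6da2816d628e21a08f499c1))
) (.leaf (nat_lit 0x13147911c91de307d41a2e681c19769ed0d))
) (.node (.leaf (nat_lit 0xb68a816ea15918e7c0d198cf84b73255e80))
 (.leaf (nat_lit 0xbc2b69c65ade7142058b6a866489e53a00e))
))

noncomputable def l27_T_t : BT :=
l27_T_t0

noncomputable def l27_T : ℕ → ℕ → ℕ := fun x i => Nat.land (Nat.shiftRight (BT.get l27_T_t x) (Nat.mul (nat_lit 5) i)) (nat_lit 31)

noncomputable def l27_E_t0 : BT :=
(.node (.leaf (nat_lit 0xa0500a01c01a030018130180301200b018008110130460700201b00808c060150460101101900))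
 (.leaf (nat_lit 0x80000000301000c00002010000000000000000000000000000002000000000000000000080000))
)

noncomputable def l27_E_t : BT :=
l27_E_t0

noncomputable def l27_E : ℕ → ℕ → ℕ := fun x i => Nat.land (Nat.shiftRight (BT.get l27_E_t x) (Nat.mul (nat_lit 11) i)) (nat_lit 2047)

theorem l27_slp0 : allLt (nat_lit 3) (fun i => force (Nat.add (nat_lit 2) i) (slpOK l27_S l27_defs (nat_lit 28))) = true := by decide +kernel

theorem l27_ren : allLt (nat_lit 5) (fun x => force (l27_iota x) fun y => band (blt y (nat_lit 5)) (allRange (nat_lit 0) (nat_lit 28) fun i => Nat.beq (l27_S y i) (l27_T x i))) = true := by decide +kernel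

theorem l27_L1_o : band (allRange (nat_lit 0) (nat_lit 28) (orbOK l27_T (nat_lit 2) (l27_E (nat_lit 1)) (Nat.beq (nat_lit 1)))) (band (Nat.ble (nat_lit 6) (count2 (nat_lit 28) fun p => Nat.ble 256 (l27_E (nat_lit 1) p))) (allLt (nat_lit 0) (fun x => Nat.beq (l27_T x (nat_lit 1)) (nat_lit 1)))) = true := by decide +kernel

theorem l27_L0_o : band (allRange (nat_lit 0) (nat_lit 28) (orbOK l27_T (nat_lit 5) (l27_E (nat_lit 0)) (Nat.beq (nat_lit 0)))) (band (Nat.ble (nat_lit 28) (count2 (nat_lit 28) fun p => Nat.ble 256 (l27_E (nat_lit 0) p))) (allLt (nat_lit 2) (fun x => Nat.beq (l27_T x (nat_lit 0)) (nat_lit 0)))) = true := by decide +kernel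

/-- The letters: a strong generating set, deepest stabiliser first. -/
noncomputable def l27_g {G : Type*} [Group G] (a : ℕ → G) : ℕ → G := fun x => slp a 2 l27_defs (l27_iota x)

theorem l27_tabs {G α : Type*} [Group G] [MulAction G α] {e : ℕ → α} {a : ℕ → G} (h0 : Tabs e 28 l27_S a 2) : Tabs e 28 l27_T (l27_g a) 5 :=
  Tabs.rename (ι := l27_iota) (g := slp a 2 l27_defs) ((Tabs.slp_base l27_defs h0).slp_add (by decide) _ l27_slp0) l27_ren

theorem l27_gen {G : Type*} [Group G] (a : ℕ → G) : genLt (l27_g a) 5 = genLt a 2 :=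
  genLt_slp_eq a l27_defs (back := getP 8 255 (nat_lit 0x302)) (by decide +kernel)

theorem l27_low1 {G α : Type*} [Group G] [MulAction G α] {e : ℕ → α} {a : ℕ → G} (he : Set.InjOn e (Set.Iio 28)) (h0 : Tabs e 28 l27_S a 2) :
    LowLevel (genLt (l27_g a) 2) (genLt (l27_g a) 0) (e 1) 6 :=
  Tabs.lowLevel (l27_tabs h0) he (by decide) (by decide) (by decide) l27_L1_o

theorem l27_ge1 {G α : Type*} [Group G] [MulAction G α] {e : ℕ → α} {a : ℕ → G} (he : Set.InjOn e (Set.Iio 28)) (h0 : Tabs e 28 l27_S a 2) :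
    Finite (genLt (l27_g a) 2) → 6 ≤ Nat.card (genLt (l27_g a) 2) := fun hK =>
  (l27_low1 he h0).card hK (one_le_card_fin _)

theorem l27_fix1 {G α : Type*} [Group G] [MulAction G α] {e : ℕ → α} {a : ℕ → G} (he : Set.InjOn e (Set.Iio 28)) (h0 : Tabs e 28 l27_S a 2) :
    ∀ X : Subgroup G, Finite X → (genLt (l27_g a) 2) ≤ X → 6 * Nat.card (fixB e X [1]) ≤ Nat.card X :=
  (l27_low1 he h0).card_fix (card_fix_nil _ _)

theorem l27_low0 {G α : Type*} [Group G] [MulAction G α] {e : ℕ → α} {a : ℕ → G} (he : Set.InjOn e (Set.Iio 28)) (h0 : Tabs e 28 l27_S a 2) :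
    LowLevel (genLt (l27_g a) 5) (genLt (l27_g a) 2) (e 0) 28 :=
  Tabs.lowLevel (l27_tabs h0) he (by decide) (by decide) (by decide) l27_L0_o

theorem l27_ge0 {G α : Type*} [Group G] [MulAction G α] {e : ℕ → α} {a : ℕ → G} (he : Set.InjOn e (Set.Iio 28)) (h0 : Tabs e 28 l27_S a 2) :
    Finite (genLt (l27_g a) 5) → 168 ≤ Nat.card (genLt (l27_g a) 5) := fun hK =>
  (l27_low0 he h0).card hK (l27_ge1 he h0)

theorem l27_fix0 {G α : Type*} [Group G] [MulAction G α] {e : ℕ → α} {a : ℕ → G} (he : Set.InjOn e (Set.Iio 28)) (h0 : Tabs e 28 l27_S a 2) :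
    ∀ X : Subgroup G, Finite X → (genLt (l27_g a) 5) ≤ X → 168 * Nat.card (fixB e X [0, 1]) ≤ Nat.card X :=
  (l27_low0 he h0).card_fix (l27_fix1 he h0)

theorem l27_ub0 {G α : Type*} [Group G] [MulAction G α] {e : ℕ → α} {a : ℕ → G} (he : Set.InjOn e (Set.Iio 28)) (h0 : Tabs e 28 l27_S a 2) (hub : Nat.card (genLt a 2) ≠ 0 ∧ Nat.card (genLt a 2) ≤ 168) :
    Nat.card (genLt (l27_g a) 5) ≠ 0 ∧ Nat.card (genLt (l27_g a) 5) ≤ 168 := by rw [l27_gen]; exact hub

theorem l27_level0 {G α : Type*} [Group G] [MulAction G α] {e : ℕ → α} {a : ℕ → G} (he : Set.InjOn e (Set.Iio 28)) (h0 : Tabs e 28 l27_S a 2) (hub : Nat.card (genLt a 2) ≠ 0 ∧ Nat.card (genLt a 2) ≤ 168) :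
    Level (genLt (l27_g a) 5) (genLt (l27_g a) 2) (e 0) 28 :=
  ((l27_low0 he h0).level (c := 6) (l27_ub0 he h0 hub) (l27_ge1 he h0)).1

theorem l27_ub1 {G α : Type*} [Group G] [MulAction G α] {e : ℕ → α} {a : ℕ → G} (he : Set.InjOn e (Set.Iio 28)) (h0 : Tabs e 28 l27_S a 2) (hub : Nat.card (genLt a 2) ≠ 0 ∧ Nat.card (genLt a 2) ≤ 168) :
    Nat.card (genLt (l27_g a) 2) ≠ 0 ∧ Nat.card (genLt (l27_g a) 2) ≤ 6 :=
  ((l27_low0 he h0).level (c := 6) (l27_ub0 he h0 hub) (l27_ge1 he h0)).2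

theorem l27_level1 {G α : Type*} [Group G] [MulAction G α] {e : ℕ → α} {a : ℕ → G} (he : Set.InjOn e (Set.Iio 28)) (h0 : Tabs e 28 l27_S a 2) (hub : Nat.card (genLt a 2) ≠ 0 ∧ Nat.card (genLt a 2) ≤ 168) :
    Level (genLt (l27_g a) 2) (genLt (l27_g a) 0) (e 1) 6 :=
  ((l27_low1 he h0).level (c := 1) (l27_ub1 he h0 hub) (one_le_card_fin _)).1

theorem l27_card1 {G α : Type*} [Group G] [MulAction G α] {e : ℕ → α} {a : ℕ → G} (he : Set.InjOn e (Set.Iio 28)) (h0 : Tabs e 28 l27_S a 2) (hub : Nat.card (genLt a 2) ≠ 0 ∧ Nat.card (genLt a 2) ≤ 168) :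
    Nat.card (genLt (l27_g a) 2) = 6 :=
  (l27_level1 he h0 hub).card (card_genLt_zero _)

theorem l27_base1 {G α : Type*} [Group G] [MulAction G α] {e : ℕ → α} {a : ℕ → G} (he : Set.InjOn e (Set.Iio 28)) (h0 : Tabs e 28 l27_S a 2) (hub : Nat.card (genLt a 2) ≠ 0 ∧ Nat.card (genLt a 2) ≤ 168) :
    IsBase e (genLt (l27_g a) 2) [1] :=
  (l27_level1 he h0 hub).base (isBase_genLt_zero _ _)

theorem l27_card0 {G α : Type*} [Group G] [MulAction G α] {e : ℕ → α} {a : ℕ → G} (he : Set.InjOn e (Set.Iio 28)) (h0 : Tabs e 28 l27_S a 2) (hub : Nat.card (genLt a 2) ≠ 0 ∧ Nat.card (genLt a 2) ≤ 168) :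
    Nat.card (genLt (l27_g a) 5) = 168 :=
  (l27_level0 he h0 hub).card (l27_card1 he h0 hub)

theorem l27_base0 {G α : Type*} [Group G] [MulAction G α] {e : ℕ → α} {a : ℕ → G} (he : Set.InjOn e (Set.Iio 28)) (h0 : Tabs e 28 l27_S a 2) (hub : Nat.card (genLt a 2) ≠ 0 ∧ Nat.card (genLt a 2) ≤ 168) :
    IsBase e (genLt (l27_g a) 5) [0, 1] :=
  (l27_level0 he h0 hub).base (l27_base1 he h0 hub)

theorem l27_hinv {G α : Type*} [Group G] [MulAction G α] {e : ℕ → α} {a : ℕ → G} (he : Set.InjOn e (Set.Iio 28)) (h0 : Tabs e 28 l27_S a 2) (hub : Nat.card (genLt a 2) ≠ 0 ∧ Nat.card (genLt a 2) ≤ 168) : ∀ x < 5, l27_g a x * l27_g a (l27_inv x) = 1 :=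
  (l27_tabs h0).hinv_of_base (l27_base0 he h0 hub) (by decide +kernel)

theorem l27_card {G α : Type*} [Group G] [MulAction G α] {e : ℕ → α} {a : ℕ → G} (he : Set.InjOn e (Set.Iio 28)) (h0 : Tabs e 28 l27_S a 2) (hub : Nat.card (genLt a 2) ≠ 0 ∧ Nat.card (genLt a 2) ≤ 168) :
    Nat.card (genLt a 2) = 168 := by
  rw [← l27_gen]; exact l27_card0 he h0 hub

end Cfsg.Agent.Cl.Sm
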