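import Mathlib
import Cfsg.Agent.Spor.Comp.Pres

/-! Generated by tools/pg: stabiliser chain u33 -/

set_option autoImplicit false
set_option maxRecDepth 100000
set_option linter.unusedVariables false
set_option exponentiation.threshold 100000

namespace Cfsg.Agent.Cl.Sm

open Cfsg.Agent.Spor

noncomputable def u33_S_t0 : BT :=
(.node (.node (.node (.node (.leaf (nat_lit 0x13147911c91de307d41a2e681c19769ed0d))
 (.leaf (nat_lit 0x6b1cf85ec94297594674ce35b21cc518820))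
) (.leaf (nat_lit 0x10023290d0b56e7cc9a943311a3f6b76953))
) (.node (.leaf (nat_lit 0x289e98ce470391430daa2058b856f6c6f3a))
 (.leaf (nat_lit 0xd36e476568a1ab12c193b1f69c2a4f10c20))
)) (.node (.node (.node (.leaf (nat_lit 0xbc2b69c65ade7142058b6a866489e53a00e))
 (.leaf (nat_lit 0x4256ab560c6bdd7c677a8ca933148718820))
) (.leaf (nat_lit 0xdc86573d870ea2db5e154a16aa0b04c9a60))
) (.node (.leaf (nat_lit 0x9d251de330bd6da2816d628e21a08f499c1))
 (.leaf (nat_lit 0x4eec7cae336160e25f4da9914549f810c20))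
)))

noncomputable def u33_S_t : BT :=
u33_S_t0

noncomputable def u33_S : ℕ → ℕ → ℕ := fun x i => Nat.land (Nat.shiftRight (BT.get u33_S_t x) (Nat.mul (nat_lit 5) i)) (nat_lit 31)

noncomputable def u33_defs : LT :=
(.node (.node (.node (.node (.leaf [nat_lit 0])
 (.leaf [nat_lit 0,nat_lit 6,nat_lit 6])
) (.leaf [nat_lit 1,nat_lit 2])
) (.node (.leaf [nat_lit 0])
 (.leaf [nat_lit 0,nat_lit 4,nat_lit 1,nat_lit 2,nat_lit 1,nat_lit 2])
)) (.node (.node (.node (.leaf [nat_lit 0])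
 (.leaf [nat_lit 1,nat_lit 8])
) (.leaf [nat_lit 0,nat_lit 4,nat_lit 3,nat_lit 0,nat_lit 1,nat_lit 2])
) (.node (.leaf [nat_lit 1,nat_lit 1])
 (.leaf [nat_lit 1,nat_lit 6])
)))
noncomputable def u33_iota : ℕ → ℕ := getP (nat_lit 8) (nat_lit 255) (nat_lit 0x4020301000507060908)
noncomputable def u33_inv : ℕ → ℕ := getP (nat_lit 8) (nat_lit 255) (nat_lit 0x8090607050402030001)
noncomputable def u33_hws : LT := .leaf []

noncomputable def u33_T_t0 : BT :=
(.node (.node (.node (.node (.leaf (nat_lit 0x6b1cf85ec94297594674ce35b21cc518820))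
 (.leaf (nat_lit 0x289e98ce470391430daa2058b856f6c6f3a))
) (.leaf (nat_lit 0xdc86573d870ea2db5e154a16aa0b04c9a60))
) (.node (.leaf (nat_lit 0xd36e476568a1ab12c193b1f69c2a4f10c20))
 (.leaf (nat_lit 0xbc2b69c65ade7142058b6a866489e53a00e))
)) (.node (.node (.node (.leaf (nat_lit 0x4256ab560c6bdd7c677a8ca933148718820))
 (.leaf (nat_lit 0x10023290d0b56e7cc9a943311a3f6b76953))
) (.leaf (nat_lit 0x13147911c91de307d41a2e681c19769ed0d))
) (.node (.leaf (nat_lit 0x4eec7cae336160e25f4da9914549f810c20))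
 (.leaf (nat_lit 0x9d251de330bd6da2816d628e21a08f499c1))
)))

noncomputable def u33_T_t : BT :=
u33_T_t0

noncomputable def u33_T : ℕ → ℕ → ℕ := fun x i => Nat.land (Nat.shiftRight (BT.get u33_T_t x) (Nat.mul (nat_lit 5) i)) (nat_lit 31)

noncomputable def u33_E_t0 : BT :=
(.node (.node (.leaf (nat_lit 0x60082580407604c2182b06410c2180b0481281d02b0360cc218030581102204c09612c2503100))
 (.leaf (nat_lit 0x40640000000))
) (.node (.leaf (nat_lit 0x80300b00d01a014060230340940281c04c0340980302a0901201b0180940b02501e0981080000))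
 (.leaf (nat_lit 0x400c050090000000000000))
))

noncomputable def u33_E_t : BT :=
u33_E_t0

noncomputable def u33_E : ℕ → ℕ → ℕ := fun x i => Nat.land (Nat.shiftRight (BT.get u33_E_t x) (Nat.mul (nat_lit 11) i)) (nat_lit 2047)

theorem u33_slp0 : allLt (nat_lit 7) (fun i => force (Nat.add (nat_lit 3) i) (slpOK u33_S u33_defs (nat_lit 28))) = true := by decide +kernel

theorem u33_ren : allLt (nat_lit 10) (fun x => force (u33_iota x) fun y => band (blt y (nat_lit 10)) (allRange (nat_lit 0) (nat_lit 28) fun i => Nat.beq (u33_S y i) (u33_T x i))) = true := by decide +kernel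

theorem u33_L3_o : band (allRange (nat_lit 0) (nat_lit 28) (orbOK u33_T (nat_lit 2) (u33_E (nat_lit 3)) (Nat.beq (nat_lit 4)))) (band (Nat.ble (nat_lit 4) (count2 (nat_lit 28) fun p => Nat.ble 256 (u33_E (nat_lit 3) p))) (allLt (nat_lit 0) (fun x => Nat.beq (u33_T x (nat_lit 4)) (nat_lit 4)))) = true := by decide +kernel

theorem u33_L2_o : band (allRange (nat_lit 0) (nat_lit 28) (orbOK u33_T (nat_lit 4) (u33_E (nat_lit 2)) (Nat.beq (nat_lit 2)))) (band (Nat.ble (nat_lit 2) (count2 (nat_lit 28) fun p => Nat.ble 256 (u33_E (nat_lit 2) p))) (allLt (nat_lit 2) (fun x => Nat.beq (u33_T x (nat_lit 2)) (nat_lit 2)))) = true := by decide +kernel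

theorem u33_L1_o : band (allRange (nat_lit 0) (nat_lit 28) (orbOK u33_T (nat_lit 5) (u33_E (nat_lit 1)) (Nat.beq (nat_lit 1)))) (band (Nat.ble (nat_lit 27) (count2 (nat_lit 28) fun p => Nat.ble 256 (u33_E (nat_lit 1) p))) (allLt (nat_lit 4) (fun x => Nat.beq (u33_T x (nat_lit 1)) (nat_lit 1)))) = true := by decide +kernel

theorem u33_L0_o : band (allRange (nat_lit 0) (nat_lit 28) (orbOK u33_T (nat_lit 10) (u33_E (nat_lit 0)) (Nat.beq (nat_lit 0)))) (band (Nat.ble (nat_lit 28) (count2 (nat_lit 28) fun p => Nat.ble 256 (u33_E (nat_lit 0) p))) (allLt (nat_lit 5) (fun x => Nat.beq (u33_T x (nat_lit 0)) (nat_lit 0)))) = true := by decide +kernel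

/-- The letters: a strong generating set, deepest stabiliser first. -/
noncomputable def u33_g {G : Type*} [Group G] (a : ℕ → G) : ℕ → G := fun x => slp a 3 u33_defs (u33_iota x)

theorem u33_tabs {G α : Type*} [Group G] [MulAction G α] {e : ℕ → α} {a : ℕ → G} (h0 : Tabs e 28 u33_S a 3) : Tabs e 28 u33_T (u33_g a) 10 :=
  Tabs.rename (ι := u33_iota) (g := slp a 3 u33_defs) ((Tabs.slp_base u33_defs h0).slp_add (by decide) _ u33_slp0) u33_ren

theorem u33_gen {G : Type*} [Group G] (a : ℕ → G) : genLt (u33_g a) 10 = genLt a 3 :=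
  genLt_slp_eq a u33_defs (back := getP 8 255 (nat_lit 0x80605)) (by decide +kernel)

theorem u33_low3 {G α : Type*} [Group G] [MulAction G α] {e : ℕ → α} {a : ℕ → G} (he : Set.InjOn e (Set.Iio 28)) (h0 : Tabs e 28 u33_S a 3) :
    LowLevel (genLt (u33_g a) 2) (genLt (u33_g a) 0) (e 4) 4 :=
  Tabs.lowLevel (u33_tabs h0) he (by decide) (by decide) (by decide) u33_L3_o

theorem u33_ge3 {G α : Type*} [Group G] [MulAction G α] {e : ℕ → α} {a : ℕ → G} (he : Set.InjOn e (Set.Iio 28)) (h0 : Tabs e 28 u33_S a 3) :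
    Finite (genLt (u33_g a) 2) → 4 ≤ Nat.card (genLt (u33_g a) 2) := fun hK =>
  (u33_low3 he h0).card hK (one_le_card_fin _)

theorem u33_fix3 {G α : Type*} [Group G] [MulAction G α] {e : ℕ → α} {a : ℕ → G} (he : Set.InjOn e (Set.Iio 28)) (h0 : Tabs e 28 u33_S a 3) :
    ∀ X : Subgroup G, Finite X → (genLt (u33_g a) 2) ≤ X → 4 * Nat.card (fixB e X [4]) ≤ Nat.card X :=
  (u33_low3 he h0).card_fix (card_fix_nil _ _)

theorem u33_low2 {G α : Type*} [Group G] [MulAction G α] {e : ℕ → α} {a : ℕ → G} (he : Set.InjOn e (Set.Iio 28)) (h0 : Tabs e 28 u33_S a 3) :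
    LowLevel (genLt (u33_g a) 4) (genLt (u33_g a) 2) (e 2) 2 :=
  Tabs.lowLevel (u33_tabs h0) he (by decide) (by decide) (by decide) u33_L2_o

theorem u33_ge2 {G α : Type*} [Group G] [MulAction G α] {e : ℕ → α} {a : ℕ → G} (he : Set.InjOn e (Set.Iio 28)) (h0 : Tabs e 28 u33_S a 3) :
    Finite (genLt (u33_g a) 4) → 8 ≤ Nat.card (genLt (u33_g a) 4) := fun hK =>
  (u33_low2 he h0).card hK (u33_ge3 he h0)

theorem u33_fix2 {G α : Type*} [Group G] [MulAction G α] {e : ℕ → α} {a : ℕ → G} (he : Set.InjOn e (Set.Iio 28)) (h0 : Tabs e 28 u33_S a 3) :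
    ∀ X : Subgroup G, Finite X → (genLt (u33_g a) 4) ≤ X → 8 * Nat.card (fixB e X [2, 4]) ≤ Nat.card X :=
  (u33_low2 he h0).card_fix (u33_fix3 he h0)

theorem u33_low1 {G α : Type*} [Group G] [MulAction G α] {e : ℕ → α} {a : ℕ → G} (he : Set.InjOn e (Set.Iio 28)) (h0 : Tabs e 28 u33_S a 3) :
    LowLevel (genLt (u33_g a) 5) (genLt (u33_g a) 4) (e 1) 27 :=
  Tabs.lowLevel (u33_tabs h0) he (by decide) (by decide) (by decide) u33_L1_o

theorem u33_ge1 {G α : Type*} [Group G] [MulAction G α] {e : ℕ → α} {a : ℕ → G} (he : Set.InjOn e (Set.Iio 28)) (h0 : Tabs e 28 u33_S a 3) :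
    Finite (genLt (u33_g a) 5) → 216 ≤ Nat.card (genLt (u33_g a) 5) := fun hK =>
  (u33_low1 he h0).card hK (u33_ge2 he h0)

theorem u33_fix1 {G α : Type*} [Group G] [MulAction G α] {e : ℕ → α} {a : ℕ → G} (he : Set.InjOn e (Set.Iio 28)) (h0 : Tabs e 28 u33_S a 3) :
    ∀ X : Subgroup G, Finite X → (genLt (u33_g a) 5) ≤ X → 216 * Nat.card (fixB e X [1, 2, 4]) ≤ Nat.card X :=
  (u33_low1 he h0).card_fix (u33_fix2 he h0)

theorem u33_low0 {G α : Type*} [Group G] [MulAction G α] {e : ℕ → α} {a : ℕ → G} (he : Set.InjOn e (Set.Iio 28)) (h0 : Tabs e 28 u33_S a 3) :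
    LowLevel (genLt (u33_g a) 10) (genLt (u33_g a) 5) (e 0) 28 :=
  Tabs.lowLevel (u33_tabs h0) he (by decide) (by decide) (by decide) u33_L0_o

theorem u33_ge0 {G α : Type*} [Group G] [MulAction G α] {e : ℕ → α} {a : ℕ → G} (he : Set.InjOn e (Set.Iio 28)) (h0 : Tabs e 28 u33_S a 3) :
    Finite (genLt (u33_g a) 10) → 6048 ≤ Nat.card (genLt (u33_g a) 10) := fun hK =>
  (u33_low0 he h0).card hK (u33_ge1 he h0)

theorem u33_fix0 {G α : Type*} [Group G] [MulAction G α] {e : ℕ → α} {a : ℕ → G} (he : Set.InjOn e (Set.Iio 28)) (h0 : Tabs e 28 u33_S a 3) :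
    ∀ X : Subgroup G, Finite X → (genLt (u33_g a) 10) ≤ X → 6048 * Nat.card (fixB e X [0, 1, 2, 4]) ≤ Nat.card X :=
  (u33_low0 he h0).card_fix (u33_fix1 he h0)

theorem u33_ub0 {G α : Type*} [Group G] [MulAction G α] {e : ℕ → α} {a : ℕ → G} (he : Set.InjOn e (Set.Iio 28)) (h0 : Tabs e 28 u33_S a 3) (hub : Nat.card (genLt a 3) ≠ 0 ∧ Nat.card (genLt a 3) ≤ 6048) :
    Nat.card (genLt (u33_g a) 10) ≠ 0 ∧ Nat.card (genLt (u33_g a) 10) ≤ 6048 := by rw [u33_gen]; exact hub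

theorem u33_level0 {G α : Type*} [Group G] [MulAction G α] {e : ℕ → α} {a : ℕ → G} (he : Set.InjOn e (Set.Iio 28)) (h0 : Tabs e 28 u33_S a 3) (hub : Nat.card (genLt a 3) ≠ 0 ∧ Nat.card (genLt a 3) ≤ 6048) :
    Level (genLt (u33_g a) 10) (genLt (u33_g a) 5) (e 0) 28 :=
  ((u33_low0 he h0).level (c := 216) (u33_ub0 he h0 hub) (u33_ge1 he h0)).1

theorem u33_ub1 {G α : Type*} [Group G] [MulAction G α] {e : ℕ → α} {a : ℕ → G} (he : Set.InjOn e (Set.Iio 28)) (h0 : Tabs e 28 u33_S a 3) (hub : Nat.card (genLt a 3) ≠ 0 ∧ Nat.card (genLt a 3) ≤ 6048) :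
    Nat.card (genLt (u33_g a) 5) ≠ 0 ∧ Nat.card (genLt (u33_g a) 5) ≤ 216 :=
  ((u33_low0 he h0).level (c := 216) (u33_ub0 he h0 hub) (u33_ge1 he h0)).2

theorem u33_level1 {G α : Type*} [Group G] [MulAction G α] {e : ℕ → α} {a : ℕ → G} (he : Set.InjOn e (Set.Iio 28)) (h0 : Tabs e 28 u33_S a 3) (hub : Nat.card (genLt a 3) ≠ 0 ∧ Nat.card (genLt a 3) ≤ 6048) :
    Level (genLt (u33_g a) 5) (genLt (u33_g a) 4) (e 1) 27 :=
  ((u33_low1 he h0).level (c := 8) (u33_ub1 he h0 hub) (u33_ge2 he h0)).1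

theorem u33_ub2 {G α : Type*} [Group G] [MulAction G α] {e : ℕ → α} {a : ℕ → G} (he : Set.InjOn e (Set.Iio 28)) (h0 : Tabs e 28 u33_S a 3) (hub : Nat.card (genLt a 3) ≠ 0 ∧ Nat.card (genLt a 3) ≤ 6048) :
    Nat.card (genLt (u33_g a) 4) ≠ 0 ∧ Nat.card (genLt (u33_g a) 4) ≤ 8 :=
  ((u33_low1 he h0).level (c := 8) (u33_ub1 he h0 hub) (u33_ge2 he h0)).2

theorem u33_level2 {G α : Type*} [Group G] [MulAction G α] {e : ℕ → α} {a : ℕ → G} (he : Set.InjOn e (Set.Iio 28)) (h0 : Tabs e 28 u33_S a 3) (hub : Nat.card (genLt a 3) ≠ 0 ∧ Nat.card (genLt a 3) ≤ 6048) :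
    Level (genLt (u33_g a) 4) (genLt (u33_g a) 2) (e 2) 2 :=
  ((u33_low2 he h0).level (c := 4) (u33_ub2 he h0 hub) (u33_ge3 he h0)).1

theorem u33_ub3 {G α : Type*} [Group G] [MulAction G α] {e : ℕ → α} {a : ℕ → G} (he : Set.InjOn e (Set.Iio 28)) (h0 : Tabs e 28 u33_S a 3) (hub : Nat.card (genLt a 3) ≠ 0 ∧ Nat.card (genLt a 3) ≤ 6048) :
    Nat.card (genLt (u33_g a) 2) ≠ 0 ∧ Nat.card (genLt (u33_g a) 2) ≤ 4 :=
  ((u33_low2 he h0).level (c := 4) (u33_ub2 he h0 hub) (u33_ge3 he h0)).2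

theorem u33_level3 {G α : Type*} [Group G] [MulAction G α] {e : ℕ → α} {a : ℕ → G} (he : Set.InjOn e (Set.Iio 28)) (h0 : Tabs e 28 u33_S a 3) (hub : Nat.card (genLt a 3) ≠ 0 ∧ Nat.card (genLt a 3) ≤ 6048) :
    Level (genLt (u33_g a) 2) (genLt (u33_g a) 0) (e 4) 4 :=
  ((u33_low3 he h0).level (c := 1) (u33_ub3 he h0 hub) (one_le_card_fin _)).1

theorem u33_card3 {G α : Type*} [Group G] [MulAction G α] {e : ℕ → α} {a : ℕ → G} (he : Set.InjOn e (Set.Iio 28)) (h0 : Tabs e 28 u33_S a 3) (hub : Nat.card (genLt a 3) ≠ 0 ∧ Nat.card (genLt a 3) ≤ 6048) :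
    Nat.card (genLt (u33_g a) 2) = 4 :=
  (u33_level3 he h0 hub).card (card_genLt_zero _)

theorem u33_base3 {G α : Type*} [Group G] [MulAction G α] {e : ℕ → α} {a : ℕ → G} (he : Set.InjOn e (Set.Iio 28)) (h0 : Tabs e 28 u33_S a 3) (hub : Nat.card (genLt a 3) ≠ 0 ∧ Nat.card (genLt a 3) ≤ 6048) :
    IsBase e (genLt (u33_g a) 2) [4] :=
  (u33_level3 he h0 hub).base (isBase_genLt_zero _ _)

theorem u33_card2 {G α : Type*} [Group G] [MulAction G α] {e : ℕ → α} {a : ℕ → G} (he : Set.InjOn e (Set.Iio 28)) (h0 : Tabs e 28 u33_S a 3) (hub : Nat.card (genLt a 3) ≠ 0 ∧ Nat.card (genLt a 3) ≤ 6048) :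
    Nat.card (genLt (u33_g a) 4) = 8 :=
  (u33_level2 he h0 hub).card (u33_card3 he h0 hub)

theorem u33_base2 {G α : Type*} [Group G] [MulAction G α] {e : ℕ → α} {a : ℕ → G} (he : Set.InjOn e (Set.Iio 28)) (h0 : Tabs e 28 u33_S a 3) (hub : Nat.card (genLt a 3) ≠ 0 ∧ Nat.card (genLt a 3) ≤ 6048) :
    IsBase e (genLt (u33_g a) 4) [2, 4] :=
  (u33_level2 he h0 hub).base (u33_base3 he h0 hub)

theorem u33_card1 {G α : Type*} [Group G] [MulAction G α] {e : ℕ → α} {a : ℕ → G} (he : Set.InjOn e (Set.Iio 28)) (h0 : Tabs e 28 u33_S a 3) (hub : Nat.card (genLt a 3) ≠ 0 ∧ Nat.card (genLt a 3) ≤ 6048) :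
    Nat.card (genLt (u33_g a) 5) = 216 :=
  (u33_level1 he h0 hub).card (u33_card2 he h0 hub)

theorem u33_base1 {G α : Type*} [Group G] [MulAction G α] {e : ℕ → α} {a : ℕ → G} (he : Set.InjOn e (Set.Iio 28)) (h0 : Tabs e 28 u33_S a 3) (hub : Nat.card (genLt a 3) ≠ 0 ∧ Nat.card (genLt a 3) ≤ 6048) :
    IsBase e (genLt (u33_g a) 5) [1, 2, 4] :=
  (u33_level1 he h0 hub).base (u33_base2 he h0 hub)

theorem u33_card0 {G α : Type*} [Group G] [MulAction G α] {e : ℕ → α} {a : ℕ → G} (he : Set.InjOn e (Set.Iio 28)) (h0 : Tabs e 28 u33_S a 3) (hub : Nat.card (genLt a 3) ≠ 0 ∧ Nat.card (genLt a 3) ≤ 6048) :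
    Nat.card (genLt (u33_g a) 10) = 6048 :=
  (u33_level0 he h0 hub).card (u33_card1 he h0 hub)

theorem u33_base0 {G α : Type*} [Group G] [MulAction G α] {e : ℕ → α} {a : ℕ → G} (he : Set.InjOn e (Set.Iio 28)) (h0 : Tabs e 28 u33_S a 3) (hub : Nat.card (genLt a 3) ≠ 0 ∧ Nat.card (genLt a 3) ≤ 6048) :
    IsBase e (genLt (u33_g a) 10) [0, 1, 2, 4] :=
  (u33_level0 he h0 hub).base (u33_base1 he h0 hub)

theorem u33_hinv {G α : Type*} [Group G] [MulAction G α] {e : ℕ → α} {a : ℕ → G} (he : Set.InjOn e (Set.Iio 28)) (h0 : Tabs e 28 u33_S a 3) (hub : Nat.card (genLt a 3) ≠ 0 ∧ Nat.card (genLt a 3) ≤ 6048) : ∀ x < 10, u33_g a x * u33_g a (u33_inv x) = 1 :=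
  (u33_tabs h0).hinv_of_base (u33_base0 he h0 hub) (by decide +kernel)

theorem u33_card {G α : Type*} [Group G] [MulAction G α] {e : ℕ → α} {a : ℕ → G} (he : Set.InjOn e (Set.Iio 28)) (h0 : Tabs e 28 u33_S a 3) (hub : Nat.card (genLt a 3) ≠ 0 ∧ Nat.card (genLt a 3) ≤ 6048) :
    Nat.card (genLt a 3) = 6048 := by
  rw [← u33_gen]; exact u33_card0 he h0 hub

end Cfsg.Agent.Cl.Sm
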