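import Mathlib
import Cfsg.Agent.Spor.Comp.Pres

/-! Generated by tools/pg: stabiliser chain u42 -/

set_option autoImplicit false
set_option maxRecDepth 100000
set_option linter.unusedVariables false
set_option exponentiation.threshold 100000

namespace Cfsg.Agent.Cl.Sm

open Cfsg.Agent.Spor

noncomputable def u42_S_t0 : BT :=
(.node (.node (.node (.node (.leaf (nat_lit 0x38d3d90a52ca24c6e679d7208411158c352215391a4875911984085e701f))
 (.leaf (nat_lit 0x9679a29236996d75988607de75c1c62040c52892c25544d24503ce34c040))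
) (.node (.leaf (nat_lit 0x5f81e75c6a53062076c29d35545985cf38d10316624b2914128a48d9840))
 (.leaf (nat_lit 0x81f85d71e6996d75989a59e38a445048e34f51354c2ca2481c61440c2040))
)) (.node (.node (.leaf (nat_lit 0x9c88d4d05d801b69974c9060c951138b20596799e8607c42873d54a3581))
 (.leaf (nat_lit 0x9a59e38a46da6585d67e181c79d2ca2481c61440c234f39355441244c040))
) (.leaf (nat_lit 0x64c8040c50659a48e26e10944d55d660620749141f2892dd71e34f39a9c0))
)) (.node (.node (.node (.leaf (nat_lit 0xc512766024b2a66df1881e56a191676361c8977823d050e49335154100c))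
 (.leaf (nat_lit 0x81f85e75c9e696292365b69759810314a24b1c620238d3d44d545048c040))
) (.node (.leaf (nat_lit 0x8193051038426d35540659a48e271e74f38d24b29a5d660620749141f9c0))
 (.leaf (nat_lit 0x65b6966179679a29237e181c79d34f39355441244c2ca2481c61440c2040))
)) (.node (.node (.leaf (nat_lit 0x91e61548f5a270d4d07578d13940c918710a2c814081f85a65b9a59cc081))
 (.leaf (nat_lit 0x8607dd71e9679a48e26996d66171881c314424b28241244d3ce4d550c040))
) (.leaf (nat_lit 0x596985d68670944d57cc9892ca75c78510349142538d3c71889238a06c0))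
)))

noncomputable def u42_S_t : BT :=
u42_S_t0

noncomputable def u42_S : ℕ → ℕ → ℕ := fun x i => Nat.land (Nat.shiftRight (BT.get u42_S_t x) (Nat.mul (nat_lit 6) i)) (nat_lit 63)

noncomputable def u42_defs : LT :=
(.node (.node (.node (.node (.leaf [nat_lit 0])
 (.leaf [nat_lit 0,nat_lit 4,nat_lit 5])
) (.node (.leaf [nat_lit 0,nat_lit 1,nat_lit 2])
 (.leaf [nat_lit 0,nat_lit 9,nat_lit 9,nat_lit 9,nat_lit 8])
)) (.node (.node (.leaf [nat_lit 1,nat_lit 0])
 (.leaf [nat_lit 1,nat_lit 8])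
) (.leaf [nat_lit 1,nat_lit 4])
)) (.node (.node (.node (.leaf [nat_lit 0])
 (.leaf [nat_lit 0,nat_lit 5,nat_lit 6,nat_lit 7])
) (.node (.leaf [nat_lit 0,nat_lit 2,nat_lit 3,nat_lit 3,nat_lit 0,nat_lit 3,nat_lit 3,nat_lit 2,nat_lit 1])
 (.leaf [nat_lit 1,nat_lit 12])
)) (.node (.node (.leaf [nat_lit 1,nat_lit 1])
 (.leaf [nat_lit 1,nat_lit 9])
) (.leaf [nat_lit 1,nat_lit 5])
)))
noncomputable def u42_iota : ℕ → ℕ := getP (nat_lit 8) (nat_lit 255) (nat_lit 0x301020006040b090d0c)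
noncomputable def u42_inv : ℕ → ℕ := getP (nat_lit 8) (nat_lit 255) (nat_lit 0x8090607040502030001)
noncomputable def u42_hws : LT := .leaf []

noncomputable def u42_T_t0 : BT :=
(.node (.node (.node (.node (.leaf (nat_lit 0x81f85d71e6996d75989a59e38a445048e34f51354c2ca2481c61440c2040))
 (.leaf (nat_lit 0xc512766024b2a66df1881e56a191676361c8977823d050e49335154100c))
) (.leaf (nat_lit 0x5f81e75c6a53062076c29d35545985cf38d10316624b2914128a48d9840))
) (.node (.leaf (nat_lit 0x81f85e75c9e696292365b69759810314a24b1c620238d3d44d545048c040))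
 (.leaf (nat_lit 0x38d3d90a52ca24c6e679d7208411158c352215391a4875911984085e701f))
)) (.node (.node (.node (.leaf (nat_lit 0x65b6966179679a29237e181c79d34f39355441244c2ca2481c61440c2040))
 (.leaf (nat_lit 0x91e61548f5a270d4d07578d13940c918710a2c814081f85a65b9a59cc081))
) (.leaf (nat_lit 0x64c8040c50659a48e26e10944d55d660620749141f2892dd71e34f39a9c0))
) (.node (.leaf (nat_lit 0x8607dd71e9679a48e26996d66171881c314424b28241244d3ce4d550c040))
 (.leaf (nat_lit 0x9c88d4d05d801b69974c9060c951138b20596799e8607c42873d54a3581))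
)))

noncomputable def u42_T_t : BT :=
u42_T_t0

noncomputable def u42_T : ℕ → ℕ → ℕ := fun x i => Nat.land (Nat.shiftRight (BT.get u42_T_t x) (Nat.mul (nat_lit 6) i)) (nat_lit 63)

noncomputable def u42_E_t0 : BT :=
(.node (.node (.leaf (nat_lit 0x608c0181c0880101982c0240ec1a03308602c1e01c0880cc1a02409a1100a0140980f01e03a09808c2583c0980f02604c09812c2103100))
 (.leaf (nat_lit 0x281a0260080e81b01600c0601800804c0e0130280500e01c0220000000000))
) (.node (.leaf (nat_lit 0x40900d8000000000102b0180400000000806c0580000000000000000000000000000000000503000000000000000000000000101480000))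
 (.leaf (nat_lit 0x1008000000010000000000080000000000000000000000000000000000000))
))

noncomputable def u42_E_t : BT :=
u42_E_t0

noncomputable def u42_E : ℕ → ℕ → ℕ := fun x i => Nat.land (Nat.shiftRight (BT.get u42_E_t x) (Nat.mul (nat_lit 11) i)) (nat_lit 2047)

theorem u42_slp0 : allLt (nat_lit 12) (fun i => force (Nat.add (nat_lit 2) i) (slpOK u42_S u42_defs (nat_lit 40))) = true := by decide +kernel

theorem u42_ren : allLt (nat_lit 10) (fun x => force (u42_iota x) fun y => band (blt y (nat_lit 14)) (allRange (nat_lit 0) (nat_lit 40) fun i => Nat.beq (u42_S y i) (u42_T x i))) = true := by decide +kernel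

theorem u42_L3_o : band (allRange (nat_lit 0) (nat_lit 40) (orbOK u42_T (nat_lit 2) (u42_E (nat_lit 3)) (Nat.beq (nat_lit 13)))) (band (Nat.ble (nat_lit 3) (count2 (nat_lit 40) fun p => Nat.ble 256 (u42_E (nat_lit 3) p))) (allLt (nat_lit 0) (fun x => Nat.beq (u42_T x (nat_lit 13)) (nat_lit 13)))) = true := by decide +kernel

theorem u42_L2_o : band (allRange (nat_lit 0) (nat_lit 40) (orbOK u42_T (nat_lit 4) (u42_E (nat_lit 2)) (Nat.beq (nat_lit 3)))) (band (Nat.ble (nat_lit 18) (count2 (nat_lit 40) fun p => Nat.ble 256 (u42_E (nat_lit 2) p))) (allLt (nat_lit 2) (fun x => Nat.beq (u42_T x (nat_lit 3)) (nat_lit 3)))) = true := by decide +kernel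

theorem u42_L1_o : band (allRange (nat_lit 0) (nat_lit 40) (orbOK u42_T (nat_lit 6) (u42_E (nat_lit 1)) (Nat.beq (nat_lit 1)))) (band (Nat.ble (nat_lit 12) (count2 (nat_lit 40) fun p => Nat.ble 256 (u42_E (nat_lit 1) p))) (allLt (nat_lit 4) (fun x => Nat.beq (u42_T x (nat_lit 1)) (nat_lit 1)))) = true := by decide +kernel

theorem u42_L0_o : band (allRange (nat_lit 0) (nat_lit 40) (orbOK u42_T (nat_lit 10) (u42_E (nat_lit 0)) (Nat.beq (nat_lit 0)))) (band (Nat.ble (nat_lit 40) (count2 (nat_lit 40) fun p => Nat.ble 256 (u42_E (nat_lit 0) p))) (allLt (nat_lit 6) (fun x => Nat.beq (u42_T x (nat_lit 0)) (nat_lit 0)))) = true := by decide +kernel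

/-- The letters: a strong generating set, deepest stabiliser first. -/
noncomputable def u42_g {G : Type*} [Group G] (a : ℕ → G) : ℕ → G := fun x => slp a 2 u42_defs (u42_iota x)

theorem u42_tabs {G α : Type*} [Group G] [MulAction G α] {e : ℕ → α} {a : ℕ → G} (h0 : Tabs e 40 u42_S a 2) : Tabs e 40 u42_T (u42_g a) 10 :=
  Tabs.rename (ι := u42_iota) (g := slp a 2 u42_defs) ((Tabs.slp_base u42_defs h0).slp_add (by decide) _ u42_slp0) u42_ren

theorem u42_gen {G : Type*} [Group G] (a : ℕ → G) : genLt (u42_g a) 10 = genLt a 2 :=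
  genLt_slp_eq a u42_defs (back := getP 8 255 (nat_lit 0x806)) (by decide +kernel)

theorem u42_low3 {G α : Type*} [Group G] [MulAction G α] {e : ℕ → α} {a : ℕ → G} (he : Set.InjOn e (Set.Iio 40)) (h0 : Tabs e 40 u42_S a 2) :
    LowLevel (genLt (u42_g a) 2) (genLt (u42_g a) 0) (e 13) 3 :=
  Tabs.lowLevel (u42_tabs h0) he (by decide) (by decide) (by decide) u42_L3_o

theorem u42_ge3 {G α : Type*} [Group G] [MulAction G α] {e : ℕ → α} {a : ℕ → G} (he : Set.InjOn e (Set.Iio 40)) (h0 : Tabs e 40 u42_S a 2) :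
    Finite (genLt (u42_g a) 2) → 3 ≤ Nat.card (genLt (u42_g a) 2) := fun hK =>
  (u42_low3 he h0).card hK (one_le_card_fin _)

theorem u42_fix3 {G α : Type*} [Group G] [MulAction G α] {e : ℕ → α} {a : ℕ → G} (he : Set.InjOn e (Set.Iio 40)) (h0 : Tabs e 40 u42_S a 2) :
    ∀ X : Subgroup G, Finite X → (genLt (u42_g a) 2) ≤ X → 3 * Nat.card (fixB e X [13]) ≤ Nat.card X :=
  (u42_low3 he h0).card_fix (card_fix_nil _ _)

theorem u42_low2 {G α : Type*} [Group G] [MulAction G α] {e : ℕ → α} {a : ℕ → G} (he : Set.InjOn e (Set.Iio 40)) (h0 : Tabs e 40 u42_S a 2) :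
    LowLevel (genLt (u42_g a) 4) (genLt (u42_g a) 2) (e 3) 18 :=
  Tabs.lowLevel (u42_tabs h0) he (by decide) (by decide) (by decide) u42_L2_o

theorem u42_ge2 {G α : Type*} [Group G] [MulAction G α] {e : ℕ → α} {a : ℕ → G} (he : Set.InjOn e (Set.Iio 40)) (h0 : Tabs e 40 u42_S a 2) :
    Finite (genLt (u42_g a) 4) → 54 ≤ Nat.card (genLt (u42_g a) 4) := fun hK =>
  (u42_low2 he h0).card hK (u42_ge3 he h0)

theorem u42_fix2 {G α : Type*} [Group G] [MulAction G α] {e : ℕ → α} {a : ℕ → G} (he : Set.InjOn e (Set.Iio 40)) (h0 : Tabs e 40 u42_S a 2) :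
    ∀ X : Subgroup G, Finite X → (genLt (u42_g a) 4) ≤ X → 54 * Nat.card (fixB e X [3, 13]) ≤ Nat.card X :=
  (u42_low2 he h0).card_fix (u42_fix3 he h0)

theorem u42_low1 {G α : Type*} [Group G] [MulAction G α] {e : ℕ → α} {a : ℕ → G} (he : Set.InjOn e (Set.Iio 40)) (h0 : Tabs e 40 u42_S a 2) :
    LowLevel (genLt (u42_g a) 6) (genLt (u42_g a) 4) (e 1) 12 :=
  Tabs.lowLevel (u42_tabs h0) he (by decide) (by decide) (by decide) u42_L1_o

theorem u42_ge1 {G α : Type*} [Group G] [MulAction G α] {e : ℕ → α} {a : ℕ → G} (he : Set.InjOn e (Set.Iio 40)) (h0 : Tabs e 40 u42_S a 2) :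
    Finite (genLt (u42_g a) 6) → 648 ≤ Nat.card (genLt (u42_g a) 6) := fun hK =>
  (u42_low1 he h0).card hK (u42_ge2 he h0)

theorem u42_fix1 {G α : Type*} [Group G] [MulAction G α] {e : ℕ → α} {a : ℕ → G} (he : Set.InjOn e (Set.Iio 40)) (h0 : Tabs e 40 u42_S a 2) :
    ∀ X : Subgroup G, Finite X → (genLt (u42_g a) 6) ≤ X → 648 * Nat.card (fixB e X [1, 3, 13]) ≤ Nat.card X :=
  (u42_low1 he h0).card_fix (u42_fix2 he h0)

theorem u42_low0 {G α : Type*} [Group G] [MulAction G α] {e : ℕ → α} {a : ℕ → G} (he : Set.InjOn e (Set.Iio 40)) (h0 : Tabs e 40 u42_S a 2) :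
    LowLevel (genLt (u42_g a) 10) (genLt (u42_g a) 6) (e 0) 40 :=
  Tabs.lowLevel (u42_tabs h0) he (by decide) (by decide) (by decide) u42_L0_o

theorem u42_ge0 {G α : Type*} [Group G] [MulAction G α] {e : ℕ → α} {a : ℕ → G} (he : Set.InjOn e (Set.Iio 40)) (h0 : Tabs e 40 u42_S a 2) :
    Finite (genLt (u42_g a) 10) → 25920 ≤ Nat.card (genLt (u42_g a) 10) := fun hK =>
  (u42_low0 he h0).card hK (u42_ge1 he h0)

theorem u42_fix0 {G α : Type*} [Group G] [MulAction G α] {e : ℕ → α} {a : ℕ → G} (he : Set.InjOn e (Set.Iio 40)) (h0 : Tabs e 40 u42_S a 2) :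
    ∀ X : Subgroup G, Finite X → (genLt (u42_g a) 10) ≤ X → 25920 * Nat.card (fixB e X [0, 1, 3, 13]) ≤ Nat.card X :=
  (u42_low0 he h0).card_fix (u42_fix1 he h0)

theorem u42_ub0 {G α : Type*} [Group G] [MulAction G α] {e : ℕ → α} {a : ℕ → G} (he : Set.InjOn e (Set.Iio 40)) (h0 : Tabs e 40 u42_S a 2) (hub : Nat.card (genLt a 2) ≠ 0 ∧ Nat.card (genLt a 2) ≤ 25920) :
    Nat.card (genLt (u42_g a) 10) ≠ 0 ∧ Nat.card (genLt (u42_g a) 10) ≤ 25920 := by rw [u42_gen]; exact hub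

theorem u42_level0 {G α : Type*} [Group G] [MulAction G α] {e : ℕ → α} {a : ℕ → G} (he : Set.InjOn e (Set.Iio 40)) (h0 : Tabs e 40 u42_S a 2) (hub : Nat.card (genLt a 2) ≠ 0 ∧ Nat.card (genLt a 2) ≤ 25920) :
    Level (genLt (u42_g a) 10) (genLt (u42_g a) 6) (e 0) 40 :=
  ((u42_low0 he h0).level (c := 648) (u42_ub0 he h0 hub) (u42_ge1 he h0)).1

theorem u42_ub1 {G α : Type*} [Group G] [MulAction G α] {e : ℕ → α} {a : ℕ → G} (he : Set.InjOn e (Set.Iio 40)) (h0 : Tabs e 40 u42_S a 2) (hub : Nat.card (genLt a 2) ≠ 0 ∧ Nat.card (genLt a 2) ≤ 25920) :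
    Nat.card (genLt (u42_g a) 6) ≠ 0 ∧ Nat.card (genLt (u42_g a) 6) ≤ 648 :=
  ((u42_low0 he h0).level (c := 648) (u42_ub0 he h0 hub) (u42_ge1 he h0)).2

theorem u42_level1 {G α : Type*} [Group G] [MulAction G α] {e : ℕ → α} {a : ℕ → G} (he : Set.InjOn e (Set.Iio 40)) (h0 : Tabs e 40 u42_S a 2) (hub : Nat.card (genLt a 2) ≠ 0 ∧ Nat.card (genLt a 2) ≤ 25920) :
    Level (genLt (u42_g a) 6) (genLt (u42_g a) 4) (e 1) 12 :=
  ((u42_low1 he h0).level (c := 54) (u42_ub1 he h0 hub) (u42_ge2 he h0)).1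

theorem u42_ub2 {G α : Type*} [Group G] [MulAction G α] {e : ℕ → α} {a : ℕ → G} (he : Set.InjOn e (Set.Iio 40)) (h0 : Tabs e 40 u42_S a 2) (hub : Nat.card (genLt a 2) ≠ 0 ∧ Nat.card (genLt a 2) ≤ 25920) :
    Nat.card (genLt (u42_g a) 4) ≠ 0 ∧ Nat.card (genLt (u42_g a) 4) ≤ 54 :=
  ((u42_low1 he h0).level (c := 54) (u42_ub1 he h0 hub) (u42_ge2 he h0)).2

theorem u42_level2 {G α : Type*} [Group G] [MulAction G α] {e : ℕ → α} {a : ℕ → G} (he : Set.InjOn e (Set.Iio 40)) (h0 : Tabs e 40 u42_S a 2) (hub : Nat.card (genLt a 2) ≠ 0 ∧ Nat.card (genLt a 2) ≤ 25920) :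
    Level (genLt (u42_g a) 4) (genLt (u42_g a) 2) (e 3) 18 :=
  ((u42_low2 he h0).level (c := 3) (u42_ub2 he h0 hub) (u42_ge3 he h0)).1

theorem u42_ub3 {G α : Type*} [Group G] [MulAction G α] {e : ℕ → α} {a : ℕ → G} (he : Set.InjOn e (Set.Iio 40)) (h0 : Tabs e 40 u42_S a 2) (hub : Nat.card (genLt a 2) ≠ 0 ∧ Nat.card (genLt a 2) ≤ 25920) :
    Nat.card (genLt (u42_g a) 2) ≠ 0 ∧ Nat.card (genLt (u42_g a) 2) ≤ 3 :=
  ((u42_low2 he h0).level (c := 3) (u42_ub2 he h0 hub) (u42_ge3 he h0)).2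

theorem u42_level3 {G α : Type*} [Group G] [MulAction G α] {e : ℕ → α} {a : ℕ → G} (he : Set.InjOn e (Set.Iio 40)) (h0 : Tabs e 40 u42_S a 2) (hub : Nat.card (genLt a 2) ≠ 0 ∧ Nat.card (genLt a 2) ≤ 25920) :
    Level (genLt (u42_g a) 2) (genLt (u42_g a) 0) (e 13) 3 :=
  ((u42_low3 he h0).level (c := 1) (u42_ub3 he h0 hub) (one_le_card_fin _)).1

theorem u42_card3 {G α : Type*} [Group G] [MulAction G α] {e : ℕ → α} {a : ℕ → G} (he : Set.InjOn e (Set.Iio 40)) (h0 : Tabs e 40 u42_S a 2) (hub : Nat.card (genLt a 2) ≠ 0 ∧ Nat.card (genLt a 2) ≤ 25920) :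
    Nat.card (genLt (u42_g a) 2) = 3 :=
  (u42_level3 he h0 hub).card (card_genLt_zero _)

theorem u42_base3 {G α : Type*} [Group G] [MulAction G α] {e : ℕ → α} {a : ℕ → G} (he : Set.InjOn e (Set.Iio 40)) (h0 : Tabs e 40 u42_S a 2) (hub : Nat.card (genLt a 2) ≠ 0 ∧ Nat.card (genLt a 2) ≤ 25920) :
    IsBase e (genLt (u42_g a) 2) [13] :=
  (u42_level3 he h0 hub).base (isBase_genLt_zero _ _)

theorem u42_card2 {G α : Type*} [Group G] [MulAction G α] {e : ℕ → α} {a : ℕ → G} (he : Set.InjOn e (Set.Iio 40)) (h0 : Tabs e 40 u42_S a 2) (hub : Nat.card (genLt a 2) ≠ 0 ∧ Nat.card (genLt a 2) ≤ 25920) :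
    Nat.card (genLt (u42_g a) 4) = 54 :=
  (u42_level2 he h0 hub).card (u42_card3 he h0 hub)

theorem u42_base2 {G α : Type*} [Group G] [MulAction G α] {e : ℕ → α} {a : ℕ → G} (he : Set.InjOn e (Set.Iio 40)) (h0 : Tabs e 40 u42_S a 2) (hub : Nat.card (genLt a 2) ≠ 0 ∧ Nat.card (genLt a 2) ≤ 25920) :
    IsBase e (genLt (u42_g a) 4) [3, 13] :=
  (u42_level2 he h0 hub).base (u42_base3 he h0 hub)

theorem u42_card1 {G α : Type*} [Group G] [MulAction G α] {e : ℕ → α} {a : ℕ → G} (he : Set.InjOn e (Set.Iio 40)) (h0 : Tabs e 40 u42_S a 2) (hub : Nat.card (genLt a 2) ≠ 0 ∧ Nat.card (genLt a 2) ≤ 25920) :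
    Nat.card (genLt (u42_g a) 6) = 648 :=
  (u42_level1 he h0 hub).card (u42_card2 he h0 hub)

theorem u42_base1 {G α : Type*} [Group G] [MulAction G α] {e : ℕ → α} {a : ℕ → G} (he : Set.InjOn e (Set.Iio 40)) (h0 : Tabs e 40 u42_S a 2) (hub : Nat.card (genLt a 2) ≠ 0 ∧ Nat.card (genLt a 2) ≤ 25920) :
    IsBase e (genLt (u42_g a) 6) [1, 3, 13] :=
  (u42_level1 he h0 hub).base (u42_base2 he h0 hub)

theorem u42_card0 {G α : Type*} [Group G] [MulAction G α] {e : ℕ → α} {a : ℕ → G} (he : Set.InjOn e (Set.Iio 40)) (h0 : Tabs e 40 u42_S a 2) (hub : Nat.card (genLt a 2) ≠ 0 ∧ Nat.card (genLt a 2) ≤ 25920) :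
    Nat.card (genLt (u42_g a) 10) = 25920 :=
  (u42_level0 he h0 hub).card (u42_card1 he h0 hub)

theorem u42_base0 {G α : Type*} [Group G] [MulAction G α] {e : ℕ → α} {a : ℕ → G} (he : Set.InjOn e (Set.Iio 40)) (h0 : Tabs e 40 u42_S a 2) (hub : Nat.card (genLt a 2) ≠ 0 ∧ Nat.card (genLt a 2) ≤ 25920) :
    IsBase e (genLt (u42_g a) 10) [0, 1, 3, 13] :=
  (u42_level0 he h0 hub).base (u42_base1 he h0 hub)

theorem u42_hinv {G α : Type*} [Group G] [MulAction G α] {e : ℕ → α} {a : ℕ → G} (he : Set.InjOn e (Set.Iio 40)) (h0 : Tabs e 40 u42_S a 2) (hub : Nat.card (genLt a 2) ≠ 0 ∧ Nat.card (genLt a 2) ≤ 25920) : ∀ x < 10, u42_g a x * u42_g a (u42_inv x) = 1 :=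
  (u42_tabs h0).hinv_of_base (u42_base0 he h0 hub) (by decide +kernel)

theorem u42_card {G α : Type*} [Group G] [MulAction G α] {e : ℕ → α} {a : ℕ → G} (he : Set.InjOn e (Set.Iio 40)) (h0 : Tabs e 40 u42_S a 2) (hub : Nat.card (genLt a 2) ≠ 0 ∧ Nat.card (genLt a 2) ≤ 25920) :
    Nat.card (genLt a 2) = 25920 := by
  rw [← u42_gen]; exact u42_card0 he h0 hub

end Cfsg.Agent.Cl.Sm
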