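import Mathlib
import Cfsg.Agent.Spor.Comp.Pres

/-! Generated by tools/pg: stabiliser chain u32 -/

set_option autoImplicit false
set_option maxRecDepth 100000
set_option linter.unusedVariables false
set_option exponentiation.threshold 100000

namespace Cfsg.Agent.Cl.Sm

open Cfsg.Agent.Spor

noncomputable def u32_S_t0 : BT :=
(.node (.node (.node (.leaf (nat_lit 0x210876543))
 (.leaf (nat_lit 0x741852630))
) (.leaf (nat_lit 0x318264750))
) (.node (.node (.leaf (nat_lit 0x582471360))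
 (.leaf (nat_lit 0x624138570))
) (.leaf (nat_lit 0x543210876))
))

noncomputable def u32_S_t : BT :=
u32_S_t0

noncomputable def u32_S : ℕ → ℕ → ℕ := fun x i => Nat.land (Nat.shiftRight (BT.get u32_S_t x) (Nat.mul (nat_lit 4) i)) (nat_lit 15)

noncomputable def u32_defs : LT :=
(.node (.node (.node (.leaf [nat_lit 0])
 (.leaf [nat_lit 1,nat_lit 1])
) (.leaf [nat_lit 0])
) (.node (.node (.leaf [nat_lit 0])
 (.leaf [nat_lit 1,nat_lit 2])
) (.leaf [nat_lit 1,nat_lit 0])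
))
noncomputable def u32_iota : ℕ → ℕ := getP (nat_lit 8) (nat_lit 255) (nat_lit 0x30005020401)
noncomputable def u32_inv : ℕ → ℕ := getP (nat_lit 8) (nat_lit 255) (nat_lit 0x40502030001)
noncomputable def u32_hws : LT := .leaf []

noncomputable def u32_T_t0 : BT :=
(.node (.node (.node (.leaf (nat_lit 0x582471360))
 (.leaf (nat_lit 0x210876543))
) (.leaf (nat_lit 0x318264750))
) (.node (.node (.leaf (nat_lit 0x741852630))
 (.leaf (nat_lit 0x543210876))
) (.leaf (nat_lit 0x624138570))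
))

noncomputable def u32_T_t : BT :=
u32_T_t0

noncomputable def u32_T : ℕ → ℕ → ℕ := fun x i => Nat.land (Nat.shiftRight (BT.get u32_T_t x) (Nat.mul (nat_lit 4) i)) (nat_lit 15)

noncomputable def u32_E_t0 : BT :=
(.node (.leaf (nat_lit 0x30280481201b0340ac0180900))
 (.leaf (nat_lit 0x30340480501b02400c0480000))
)

noncomputable def u32_E_t : BT :=
u32_E_t0

noncomputable def u32_E : ℕ → ℕ → ℕ := fun x i => Nat.land (Nat.shiftRight (BT.get u32_E_t x) (Nat.mul (nat_lit 11) i)) (nat_lit 2047)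

theorem u32_slp0 : allLt (nat_lit 3) (fun i => force (Nat.add (nat_lit 3) i) (slpOK u32_S u32_defs (nat_lit 9))) = true := by decide +kernel

theorem u32_ren : allLt (nat_lit 6) (fun x => force (u32_iota x) fun y => band (blt y (nat_lit 6)) (allRange (nat_lit 0) (nat_lit 9) fun i => Nat.beq (u32_S y i) (u32_T x i))) = true := by decide +kernel

theorem u32_L1_o : band (allRange (nat_lit 0) (nat_lit 9) (orbOK u32_T (nat_lit 4) (u32_E (nat_lit 1)) (Nat.beq (nat_lit 1)))) (band (Nat.ble (nat_lit 8) (count2 (nat_lit 9) fun p => Nat.ble 256 (u32_E (nat_lit 1) p))) (allLt (nat_lit 0) (fun x => Nat.beq (u32_T x (nat_lit 1)) (nat_lit 1)))) = true := by decide +kernel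

theorem u32_L0_o : band (allRange (nat_lit 0) (nat_lit 9) (orbOK u32_T (nat_lit 6) (u32_E (nat_lit 0)) (Nat.beq (nat_lit 0)))) (band (Nat.ble (nat_lit 9) (count2 (nat_lit 9) fun p => Nat.ble 256 (u32_E (nat_lit 0) p))) (allLt (nat_lit 4) (fun x => Nat.beq (u32_T x (nat_lit 0)) (nat_lit 0)))) = true := by decide +kernel

/-- The letters: a strong generating set, deepest stabiliser first. -/
noncomputable def u32_g {G : Type*} [Group G] (a : ℕ → G) : ℕ → G := fun x => slp a 3 u32_defs (u32_iota x)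

theorem u32_tabs {G α : Type*} [Group G] [MulAction G α] {e : ℕ → α} {a : ℕ → G} (h0 : Tabs e 9 u32_S a 3) : Tabs e 9 u32_T (u32_g a) 6 :=
  Tabs.rename (ι := u32_iota) (g := slp a 3 u32_defs) ((Tabs.slp_base u32_defs h0).slp_add (by decide) _ u32_slp0) u32_ren

theorem u32_gen {G : Type*} [Group G] (a : ℕ → G) : genLt (u32_g a) 6 = genLt a 3 :=
  genLt_slp_eq a u32_defs (back := getP 8 255 (nat_lit 0x20004)) (by decide +kernel)

theorem u32_low1 {G α : Type*} [Group G] [MulAction G α] {e : ℕ → α} {a : ℕ → G} (he : Set.InjOn e (Set.Iio 9)) (h0 : Tabs e 9 u32_S a 3) :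
    LowLevel (genLt (u32_g a) 4) (genLt (u32_g a) 0) (e 1) 8 :=
  Tabs.lowLevel (u32_tabs h0) he (by decide) (by decide) (by decide) u32_L1_o

theorem u32_ge1 {G α : Type*} [Group G] [MulAction G α] {e : ℕ → α} {a : ℕ → G} (he : Set.InjOn e (Set.Iio 9)) (h0 : Tabs e 9 u32_S a 3) :
    Finite (genLt (u32_g a) 4) → 8 ≤ Nat.card (genLt (u32_g a) 4) := fun hK =>
  (u32_low1 he h0).card hK (one_le_card_fin _)

theorem u32_fix1 {G α : Type*} [Group G] [MulAction G α] {e : ℕ → α} {a : ℕ → G} (he : Set.InjOn e (Set.Iio 9)) (h0 : Tabs e 9 u32_S a 3) :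
    ∀ X : Subgroup G, Finite X → (genLt (u32_g a) 4) ≤ X → 8 * Nat.card (fixB e X [1]) ≤ Nat.card X :=
  (u32_low1 he h0).card_fix (card_fix_nil _ _)

theorem u32_low0 {G α : Type*} [Group G] [MulAction G α] {e : ℕ → α} {a : ℕ → G} (he : Set.InjOn e (Set.Iio 9)) (h0 : Tabs e 9 u32_S a 3) :
    LowLevel (genLt (u32_g a) 6) (genLt (u32_g a) 4) (e 0) 9 :=
  Tabs.lowLevel (u32_tabs h0) he (by decide) (by decide) (by decide) u32_L0_o

theorem u32_ge0 {G α : Type*} [Group G] [MulAction G α] {e : ℕ → α} {a : ℕ → G} (he : Set.InjOn e (Set.Iio 9)) (h0 : Tabs e 9 u32_S a 3) :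
    Finite (genLt (u32_g a) 6) → 72 ≤ Nat.card (genLt (u32_g a) 6) := fun hK =>
  (u32_low0 he h0).card hK (u32_ge1 he h0)

theorem u32_fix0 {G α : Type*} [Group G] [MulAction G α] {e : ℕ → α} {a : ℕ → G} (he : Set.InjOn e (Set.Iio 9)) (h0 : Tabs e 9 u32_S a 3) :
    ∀ X : Subgroup G, Finite X → (genLt (u32_g a) 6) ≤ X → 72 * Nat.card (fixB e X [0, 1]) ≤ Nat.card X :=
  (u32_low0 he h0).card_fix (u32_fix1 he h0)

theorem u32_ub0 {G α : Type*} [Group G] [MulAction G α] {e : ℕ → α} {a : ℕ → G} (he : Set.InjOn e (Set.Iio 9)) (h0 : Tabs e 9 u32_S a 3) (hub : Nat.card (genLt a 3) ≠ 0 ∧ Nat.card (genLt a 3) ≤ 72) :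
    Nat.card (genLt (u32_g a) 6) ≠ 0 ∧ Nat.card (genLt (u32_g a) 6) ≤ 72 := by rw [u32_gen]; exact hub

theorem u32_level0 {G α : Type*} [Group G] [MulAction G α] {e : ℕ → α} {a : ℕ → G} (he : Set.InjOn e (Set.Iio 9)) (h0 : Tabs e 9 u32_S a 3) (hub : Nat.card (genLt a 3) ≠ 0 ∧ Nat.card (genLt a 3) ≤ 72) :
    Level (genLt (u32_g a) 6) (genLt (u32_g a) 4) (e 0) 9 :=
  ((u32_low0 he h0).level (c := 8) (u32_ub0 he h0 hub) (u32_ge1 he h0)).1

theorem u32_ub1 {G α : Type*} [Group G] [MulAction G α] {e : ℕ → α} {a : ℕ → G} (he : Set.InjOn e (Set.Iio 9)) (h0 : Tabs e 9 u32_S a 3) (hub : Nat.card (genLt a 3) ≠ 0 ∧ Nat.card (genLt a 3) ≤ 72) :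
    Nat.card (genLt (u32_g a) 4) ≠ 0 ∧ Nat.card (genLt (u32_g a) 4) ≤ 8 :=
  ((u32_low0 he h0).level (c := 8) (u32_ub0 he h0 hub) (u32_ge1 he h0)).2

theorem u32_level1 {G α : Type*} [Group G] [MulAction G α] {e : ℕ → α} {a : ℕ → G} (he : Set.InjOn e (Set.Iio 9)) (h0 : Tabs e 9 u32_S a 3) (hub : Nat.card (genLt a 3) ≠ 0 ∧ Nat.card (genLt a 3) ≤ 72) :
    Level (genLt (u32_g a) 4) (genLt (u32_g a) 0) (e 1) 8 :=
  ((u32_low1 he h0).level (c := 1) (u32_ub1 he h0 hub) (one_le_card_fin _)).1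

theorem u32_card1 {G α : Type*} [Group G] [MulAction G α] {e : ℕ → α} {a : ℕ → G} (he : Set.InjOn e (Set.Iio 9)) (h0 : Tabs e 9 u32_S a 3) (hub : Nat.card (genLt a 3) ≠ 0 ∧ Nat.card (genLt a 3) ≤ 72) :
    Nat.card (genLt (u32_g a) 4) = 8 :=
  (u32_level1 he h0 hub).card (card_genLt_zero _)

theorem u32_base1 {G α : Type*} [Group G] [MulAction G α] {e : ℕ → α} {a : ℕ → G} (he : Set.InjOn e (Set.Iio 9)) (h0 : Tabs e 9 u32_S a 3) (hub : Nat.card (genLt a 3) ≠ 0 ∧ Nat.card (genLt a 3) ≤ 72) :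
    IsBase e (genLt (u32_g a) 4) [1] :=
  (u32_level1 he h0 hub).base (isBase_genLt_zero _ _)

theorem u32_card0 {G α : Type*} [Group G] [MulAction G α] {e : ℕ → α} {a : ℕ → G} (he : Set.InjOn e (Set.Iio 9)) (h0 : Tabs e 9 u32_S a 3) (hub : Nat.card (genLt a 3) ≠ 0 ∧ Nat.card (genLt a 3) ≤ 72) :
    Nat.card (genLt (u32_g a) 6) = 72 :=
  (u32_level0 he h0 hub).card (u32_card1 he h0 hub)

theorem u32_base0 {G α : Type*} [Group G] [MulAction G α] {e : ℕ → α} {a : ℕ → G} (he : Set.InjOn e (Set.Iio 9)) (h0 : Tabs e 9 u32_S a 3) (hub : Nat.card (genLt a 3) ≠ 0 ∧ Nat.card (genLt a 3) ≤ 72) :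
    IsBase e (genLt (u32_g a) 6) [0, 1] :=
  (u32_level0 he h0 hub).base (u32_base1 he h0 hub)

theorem u32_hinv {G α : Type*} [Group G] [MulAction G α] {e : ℕ → α} {a : ℕ → G} (he : Set.InjOn e (Set.Iio 9)) (h0 : Tabs e 9 u32_S a 3) (hub : Nat.card (genLt a 3) ≠ 0 ∧ Nat.card (genLt a 3) ≤ 72) : ∀ x < 6, u32_g a x * u32_g a (u32_inv x) = 1 :=
  (u32_tabs h0).hinv_of_base (u32_base0 he h0 hub) (by decide +kernel)

theorem u32_card {G α : Type*} [Group G] [MulAction G α] {e : ℕ → α} {a : ℕ → G} (he : Set.InjOn e (Set.Iio 9)) (h0 : Tabs e 9 u32_S a 3) (hub : Nat.card (genLt a 3) ≠ 0 ∧ Nat.card (genLt a 3) ≤ 72) :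
    Nat.card (genLt a 3) = 72 := by
  rw [← u32_gen]; exact u32_card0 he h0 hub

end Cfsg.Agent.Cl.Sm
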